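import Cfsg.Agent.Lib.Classical.SpSimple
import Cfsg.Agent.Lib.Fusion.UniTri

/-!
# The standard Borel subgroup of the symplectic group
-/

set_option autoImplicit false

open Matrix Cfsg CfsgLib.Classical CfsgLib.Fusion.UniTri

namespace CfsgLib.Fusion.SpSimple

variable {F : Type*} [Field F] {m : ℕ}

local notation "V" => Fin m ⊕ Fin m → F
local notation "Sp" => symplecticGroup (Fin m) F
local notation "ω" => sympForm m F

/-- The first half of the standard basis. -/
def eV (i : Fin m) : Fin m ⊕ Fin m → F := Pi.single (Sum.inl i) 1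

/-- The second half of the standard basis. -/
def fV (i : Fin m) : Fin m ⊕ Fin m → F := Pi.single (Sum.inr i) 1

theorem form_eV (v : V) (i : Fin m) : ω v (eV i) = v (Sum.inr i) := sympForm_single_inl v i

theorem form_fV (v : V) (i : Fin m) : ω v (fV i) = -v (Sum.inl i) := sympForm_single_inr v i

theorem eV_form (v : V) (i : Fin m) : ω (eV i) v = -v (Sum.inr i) := by
  rw [sympForm_swap v, form_eV]

theorem fV_form (v : V) (i : Fin m) : ω (fV i) v = v (Sum.inl i) := by
  rw [sympForm_swap v, form_fV, neg_neg]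

@[simp] theorem eV_inl (i j : Fin m) : (eV i : V) (Sum.inl j) = if j = i then 1 else 0 := by
  simp [eV, Pi.single_apply]

@[simp] theorem eV_inr (i j : Fin m) : (eV i : V) (Sum.inr j) = 0 := by simp [eV]

@[simp] theorem fV_inl (i j : Fin m) : (fV i : V) (Sum.inl j) = 0 := by simp [fV]

@[simp] theorem fV_inr (i j : Fin m) : (fV i : V) (Sum.inr j) = if j = i then 1 else 0 := by
  simp [fV, Pi.single_apply]

theorem mulVec_eV (M : Matrix (Fin m ⊕ Fin m) (Fin m ⊕ Fin m) F) (j : Fin m)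
    (x : Fin m ⊕ Fin m) : (M *ᵥ eV j) x = M x (Sum.inl j) := by
  rw [eV, mulVec_single_one]
  rfl

theorem sp_apply_inl (g : Sp) (x : Fin m ⊕ Fin m) (j : Fin m) :
    g.1 x (Sum.inl j) = (g.1 *ᵥ eV j) x := (mulVec_eV g.1 j x).symm

theorem sp_mulVec_mul (g h : Sp) (x : V) : (g * h).1 *ᵥ x = g.1 *ᵥ (h.1 *ᵥ x) := by
  rw [Submonoid.coe_mul, mulVec_mulVec]

theorem sp_mulVec_one (x : V) : (1 : Sp).1 *ᵥ x = x := one_mulVec x

/-- The element `x ↦ x + ω(x,e) v + (ω(x,v) + a ω(x,e)) e`. -/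
def spY (e v : V) (a : F) : Sp := spT (e + v) 1 * (spT v 1)⁻¹ * (spT e 1)⁻¹ * spT e a

theorem spY_apply {e v : V} (h : ω e v = 0) (a : F) (x : V) :
    (spY e v a).1 *ᵥ x = x + ω x e • v + (ω x v + a * ω x e) • e := by
  have h' : ω v e = 0 := by rw [sympForm_swap e v, h, neg_zero]
  rw [spY, spT_inv, spT_inv, mul_assoc (spT (e + v) 1 * spT v (-1)), spT_mul, sp_mulVec_mul,
    sp_mulVec_mul, spT_apply e, spT_apply v, spT_apply]
  simp only [sympForm_add_left, sympForm_add_right, sympForm_smul_left,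
    sympForm_self, h, h', mul_zero, add_zero, smul_add, one_mul]
  module

theorem conj_spY (g : Sp) (e v : V) (a : F) :
    g * spY e v a * g⁻¹ = spY (g.1 *ᵥ e) (g.1 *ᵥ v) a := by
  have hc : ∀ x y : Sp, g * (x * y) * g⁻¹ = g * x * g⁻¹ * (g * y * g⁻¹) := fun x y => by group
  simp only [spY, spT_inv, hc, spT_conj, mulVec_add]

theorem spY_mul {e v w : V} (hv : ω e v = 0) (hw : ω e w = 0) (a b : F) :
    spY e v a * spY e w b = spY e (v + w) (a + b + ω w v) := by
  have hw' : ω w e = 0 := by rw [sympForm_swap e w, hw, neg_zero]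
  refine sp_ext fun x => ?_
  rw [sp_mulVec_mul, spY_apply hw, spY_apply hv,
    spY_apply (by rw [sympForm_add_right, hv, hw, add_zero] : ω e (v + w) = 0)]
  simp only [sympForm_add_left, sympForm_add_right, sympForm_smul_left, sympForm_self, hw', hv,
    mul_zero, add_zero]
  module

theorem spY_zero (e : V) (a : F) : spY e 0 a = spT e a := by
  refine sp_ext fun x => ?_
  rw [spY_apply (by simp [sympForm]), spT_apply]
  simp [sympForm]

theorem spD_mul (A B : GL (Fin m) F) : spD (A * B) = spD A * spD B := by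
  refine Subtype.ext ?_
  simp [spD, fromBlocks_multiply, _root_.mul_inv_rev, transpose_mul, -Matrix.coe_units_inv]

theorem spD_one : spD (1 : GL (Fin m) F) = 1 := by
  refine Subtype.ext ?_
  simp [spD, fromBlocks_one, -Matrix.coe_units_inv]

/-- `spD` as a homomorphism. -/
noncomputable def spDHom : GL (Fin m) F →* Sp where
  toFun := spD
  map_one' := spD_one
  map_mul' := spD_mul

/-- An element fixing the span of the first half is a block triangular product. -/
theorem exists_eq_spD_mul_spS {g : Sp} (h : ∀ i j, g.1 (Sum.inr i) (Sum.inl j) = 0) :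
    ∃ (A : GL (Fin m) F) (B : Matrix (Fin m) (Fin m) F) (hB : B.IsSymm),
      (A : Matrix (Fin m) (Fin m) F) = g.1.toBlocks₁₁ ∧ g = spD A * spS B hB := by
  have h21 : g.1.toBlocks₂₁ = 0 := by
    ext i j
    exact h i j
  have hg := g.2
  rw [← fromBlocks_toBlocks g.1, SymplecticGroup.fromBlocks_mem_iff, h21] at hg
  obtain ⟨-, hBD, hAD⟩ := hg
  rw [transpose_zero, Matrix.zero_mul, sub_zero] at hAD
  have hAD' : (g.1.toBlocks₂₂)ᵀ * g.1.toBlocks₁₁ = 1 := by
    rw [← transpose_transpose (g.1.toBlocks₁₁), ← transpose_mul, hAD, transpose_one]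
  let A : GL (Fin m) F :=
    ⟨g.1.toBlocks₁₁, (g.1.toBlocks₂₂)ᵀ, mul_eq_one_comm.1 hAD', hAD'⟩
  have hB : ((g.1.toBlocks₂₂)ᵀ * g.1.toBlocks₁₂).IsSymm := by
    rw [Matrix.IsSymm, transpose_mul, transpose_transpose]
    exact hBD
  refine ⟨A, _, hB, rfl, Subtype.ext ?_⟩
  show g.1 = fromBlocks g.1.toBlocks₁₁ 0 0 ((g.1.toBlocks₂₂)ᵀ)ᵀ * fromBlocks 1 _ 0 1
  rw [fromBlocks_multiply]
  simp only [Matrix.mul_one, Matrix.zero_mul, Matrix.mul_zero, add_zero, zero_add,
    transpose_transpose, ← Matrix.mul_assoc]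
  rw [show g.1.toBlocks₁₁ * (g.1.toBlocks₂₂)ᵀ = 1 from mul_eq_one_comm.1 hAD', Matrix.one_mul]
  conv_lhs => rw [← fromBlocks_toBlocks g.1, h21]

theorem spS_pow (B : Matrix (Fin m) (Fin m) F) (hB : B.IsSymm) :
    ∀ k : ℕ, (spS B hB) ^ k = spS ((k : F) • B) (hB.smul _)
  | 0 => by
    refine Subtype.ext ?_
    simp [spS, fromBlocks_one]
  | k + 1 => by
    rw [pow_succ, spS_pow B hB k, spS_mul]
    exact spS_congr (by push_cast; rw [add_smul, one_smul]) _ _

variable [Fintype F]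

variable (F m) in
/-- The standard maximal unipotent subgroup. -/
def spU : Subgroup (symplecticGroup (Fin m) F) where
  carrier := {g | g.1.toBlocks₂₁ = 0 ∧ IsUni g.1.toBlocks₁₁}
  one_mem' := by
    rw [Set.mem_ofPred_eq, Submonoid.coe_one, ← fromBlocks_one, toBlocks_fromBlocks₂₁,
      toBlocks_fromBlocks₁₁]
    exact ⟨rfl, IsUni.one⟩
  mul_mem' := by
    rintro g h ⟨hg1, hg2⟩ ⟨hh1, hh2⟩
    rw [Set.mem_ofPred_eq, Submonoid.coe_mul, ← fromBlocks_toBlocks g.1,
      ← fromBlocks_toBlocks h.1, fromBlocks_multiply, toBlocks_fromBlocks₂₁,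
      toBlocks_fromBlocks₁₁, hg1, hh1, Matrix.zero_mul, Matrix.mul_zero, Matrix.mul_zero, add_zero,
      add_zero]
    exact ⟨rfl, hg2.mul hh2⟩
  inv_mem' := fun {g} hg => by
    obtain ⟨k, hk0, hk⟩ := (isOfFinOrder_of_finite g).exists_pow_eq_one
    have h1 : g⁻¹ = g ^ (k - 1) := by
      rw [inv_eq_iff_mul_eq_one, ← pow_succ', show k - 1 + 1 = k by omega, hk]
    rw [h1]
    refine Submonoid.pow_mem
      { carrier := {g : Sp | g.1.toBlocks₂₁ = 0 ∧ IsUni g.1.toBlocks₁₁}
        one_mem' := by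
          rw [Set.mem_ofPred_eq, Submonoid.coe_one, ← fromBlocks_one, toBlocks_fromBlocks₂₁,
            toBlocks_fromBlocks₁₁]
          exact ⟨rfl, IsUni.one⟩
        mul_mem' := by
          rintro a b ⟨hg1, hg2⟩ ⟨hh1, hh2⟩
          rw [Set.mem_ofPred_eq, Submonoid.coe_mul, ← fromBlocks_toBlocks a.1,
            ← fromBlocks_toBlocks b.1, fromBlocks_multiply, toBlocks_fromBlocks₂₁,
            toBlocks_fromBlocks₁₁, hg1, hh1, Matrix.zero_mul, Matrix.mul_zero, Matrix.mul_zero,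
            add_zero, add_zero]
          exact ⟨rfl, hg2.mul hh2⟩ } hg _

theorem mem_spU_iff {g : Sp} : g ∈ spU F m ↔
    (∀ i j, g.1 (Sum.inr i) (Sum.inl j) = 0) ∧
      (∀ i j, j < i → g.1 (Sum.inl i) (Sum.inl j) = 0) ∧
        ∀ i, g.1 (Sum.inl i) (Sum.inl i) = 1 := by
  refine ⟨fun ⟨h1, h2, h3⟩ => ⟨fun i j => congrFun (congrFun h1 i) j, h2, h3⟩,
    fun ⟨h1, h2, h3⟩ => ⟨?_, h2, h3⟩⟩
  ext i j
  exact h1 i j

theorem spS_mem_spU (B : Matrix (Fin m) (Fin m) F) (hB : B.IsSymm) : spS B hB ∈ spU F m := by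
  refine ⟨?_, ?_⟩
  · simp [spS]
  · simp only [spS, toBlocks_fromBlocks₁₁]
    exact IsUni.one

theorem spT_eV_mem_spU (i : Fin m) (c : F) : spT (eV i) c ∈ spU F m := by
  rw [eV, ← spS_single_eq_spT i c (isSymm_single i c)]
  exact spS_mem_spU _ _

theorem spY_fV_mem_spU {i j : Fin m} (hij : i < j) (c : F) :
    spY (eV i) (c • fV j) 0 ∈ spU F m := by
  have h0 : ω (eV i) (c • fV j) = 0 := by
    rw [eV_form]
    simp [hij.ne]
  refine mem_spU_iff.2 ⟨fun a b => ?_, fun a b hab => ?_, fun a => ?_⟩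
  all_goals rw [sp_apply_inl, spY_apply h0]
  all_goals simp [form_eV, sympForm_smul_right, form_fV]
  all_goals split_ifs <;> simp_all <;> omega

theorem isPGroup_spU {p : ℕ} [Fact p.Prime] [CharP F p] : IsPGroup p (spU F m) := by
  rintro ⟨g, hg⟩
  refine ⟨m + 1, Subtype.ext ?_⟩
  have hgpow : g ^ p ^ m ∈ spU F m := Subgroup.pow_mem _ hg _
  have h11 : ∀ k : ℕ, (g ^ k).1.toBlocks₁₁ = g.1.toBlocks₁₁ ^ k := by
    intro k
    induction k with
    | zero =>
      rw [pow_zero, pow_zero, Submonoid.coe_one, ← fromBlocks_one, toBlocks_fromBlocks₁₁]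
    | succ k ih =>
      rw [pow_succ, pow_succ, Submonoid.coe_mul, ← fromBlocks_toBlocks (g ^ k).1,
        ← fromBlocks_toBlocks g.1, fromBlocks_multiply, toBlocks_fromBlocks₁₁, ih, hg.1,
        Matrix.mul_zero, add_zero, toBlocks_fromBlocks₁₁]
  obtain ⟨A, B, hB, hA, hgA⟩ := exists_eq_spD_mul_spS (mem_spU_iff.1 hgpow).1
  have hA1 : A = 1 := Units.ext (by
    rw [hA, h11, Units.val_one]
    exact IsUni.pow_char hg.2)
  rw [SubgroupClass.coe_pow, pow_succ, pow_mul, hgA, hA1, spD_one, one_mul, spS_pow,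
    Subgroup.coe_one]
  refine Subtype.ext ?_
  simp [spS, CharP.cast_eq_zero, fromBlocks_one]

/-- An element normalizing the unipotent subgroup is triangular. -/
theorem triangular_of_normalizes {g : Sp}
    (h : ∀ u ∈ spU F m, g⁻¹ * u * g ∈ spU F m) :
    (∀ i j, g.1 (Sum.inr i) (Sum.inl j) = 0) ∧
      ∀ i j, j < i → g.1 (Sum.inl i) (Sum.inl j) = 0 := by
  suffices H : ∀ k : Fin m, (∀ i, g.1 (Sum.inr i) (Sum.inl k) = 0) ∧
      ∀ i, k < i → g.1 (Sum.inl i) (Sum.inl k) = 0 from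
    ⟨fun i j => (H j).1 i, fun i j hij => (H j).2 i hij⟩
  intro k
  induction k using WellFoundedLT.induction with
  | _ k ih =>
  set v := g.1 *ᵥ eV k with hv
  -- moved vectors stay in the span of the earlier basis vectors
  have hlow : ∀ u ∈ spU F m, ∀ x : Fin m ⊕ Fin m,
      (∀ i, i < k → x ≠ Sum.inl i) → (u.1 *ᵥ v - v) x = 0 := by
    intro u hu x hx
    have hu' := h u hu
    obtain ⟨h1, h2, h3⟩ := mem_spU_iff.1 hu'
    have heq : u.1 *ᵥ v - v = g.1 *ᵥ ((g⁻¹ * u * g).1 *ᵥ eV k - eV k) := by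
      rw [mulVec_sub, sp_mulVec_mul, sp_mulVec_mul, sp_mulVec_inv]
    rw [heq]
    show (g.1 *ᵥ _) x = 0
    rw [Matrix.mulVec, dotProduct]
    refine Finset.sum_eq_zero fun y _ => ?_
    rcases y with l | l
    · rcases lt_or_ge l k with hl | hl
      · rcases x with a | a
        · have : k ≤ a := by
            by_contra hc
            exact hx a (not_le.1 hc) rfl
          rw [(ih l hl).2 a (lt_of_lt_of_le hl this), zero_mul]
        · rw [(ih l hl).1 a, zero_mul]
      · rw [Pi.sub_apply, mulVec_eV]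
        rcases hl.eq_or_lt with rfl | hlt
        · rw [h3]; simp
        · rw [h2 l k hlt]; simp [hlt.ne']
    · rw [Pi.sub_apply, mulVec_eV, h1]; simp
  have hr : ∀ i, v (Sum.inr i) = 0 := by
    intro i
    rcases le_or_gt k i with hi | hi
    · have h1 := hlow _ (spT_eV_mem_spU i 1) (Sum.inl i)
        (fun l hl h2 => absurd (Sum.inl.inj h2) (fun h3 => absurd (h3 ▸ hl) (not_lt.2 hi)))
      simpa [spT_apply, form_eV] using h1
    · have h0 : ω (eV i : V) (eV k) = 0 := by simp [eV_form]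
      have hmem : spY (eV i : V) (eV k) 0 ∈ spU F m := by
        refine mem_spU_iff.2 ⟨fun a b => ?_, fun a b _ => ?_, fun a => ?_⟩
        all_goals rw [sp_apply_inl, spY_apply h0]
        all_goals simp [form_eV]
        omega
      have h1 := hlow _ hmem (Sum.inl k)
        (fun l hl h2 => absurd (Sum.inl.inj h2) hl.ne')
      simpa [spY_apply h0, form_eV, hi.ne'] using h1
  refine ⟨fun i => (sp_apply_inl g _ k).trans (hr i), fun i hi => ?_⟩
  have h0 : ω (eV k : V) (fV i) = 0 := by simp [eV_form, hi.ne]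
  have h1 := hlow (spY (eV k) (fV i) 0) (by simpa using spY_fV_mem_spU (F := F) hi 1) (Sum.inl k)
    (fun l hl h2 => absurd (Sum.inl.inj h2) hl.ne')
  rw [sp_apply_inl]
  simpa [spY_apply h0, form_eV, form_fV, hr, ← hv] using h1

end CfsgLib.Fusion.SpSimple
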