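import Cfsg.Agent.Lib.Fusion.PSpSimple.Radical
import Cfsg.Agent.Lib.Fusion.LocalCrit

/-!
# Strongly closed subgroups in the defining characteristic of the symplectic group
-/

set_option autoImplicit false

open Matrix Cfsg Cfsg.FusionSystem CfsgLib.Classical CfsgLib.Fusion.UniTri

namespace CfsgLib.Fusion.SpSimple

variable {F : Type*} [Field F] [Fintype F] {m : ℕ}

local notation "V" => Fin m ⊕ Fin m → F
local notation "Sp" => symplecticGroup (Fin m) F
local notation "ω" => sympForm m F

theorem spT_mem_spU {v : V} (hv : ∀ i, v (Sum.inr i) = 0) (c : F) : spT v c ∈ spU F m := by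
  have h : ∀ j, (spT v c).1 *ᵥ eV j = eV j := fun j => spT_fix (by rw [eV_form, hv, neg_zero]) c
  refine mem_spU_iff.2 ⟨fun i j => ?_, fun i j hij => ?_, fun i => ?_⟩
  all_goals rw [sp_apply_inl, h]
  all_goals simp
  exact hij.ne'

theorem eq_spY_of_central {i₀ i₁ : Fin m} (h0 : i₀.val = 0) (h1 : i₁.val = 1)
    {p : ℕ} [Fact p.Prime] [CharP F p]
    {z : Sp} (hz : z ∈ spU F m) (hc : ∀ s ∈ spU F m, s * z = z * s) :
    ∃ a b : F, 2 * b = 0 ∧ z = spY (eV i₀) (b • eV i₁) a := by
  have hzp : ∃ k : ℕ, z ^ p ^ k = 1 := by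
    obtain ⟨k, hk⟩ := isPGroup_spU (p := p) ⟨z, hz⟩
    exact ⟨k, congrArg Subtype.val hk⟩
  have hfix : ∀ i, z.1 *ᵥ eV i = eV i := fun i =>
    (fix_of_commute_spT (p := p) (eV_ne_zero i) hzp (hc _ (spT_eV_mem_spU i 1)).symm).1
  obtain ⟨B, hB, rfl⟩ := eq_spS_of_fix hfix
  have hne : i₀ ≠ i₁ := fun h => by rw [h, h1] at h0; exact one_ne_zero h0
  have key : ∀ i j : Fin m, i < j → (∀ l, l ≠ i → B l j = 0) ∧ 2 * B i j = 0 := by
    intro i j hij
    have hu := hc _ (spY_fV_mem_spU (F := F) hij 1)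
    rw [one_smul] at hu
    have h2 : spY (eV i) ((spS B hB).1 *ᵥ fV j) 0 = spY (eV i) (fV j) 0 := by
      calc spY (eV i) ((spS B hB).1 *ᵥ fV j) 0
          = spY ((spS B hB).1 *ᵥ eV i) ((spS B hB).1 *ᵥ fV j) 0 := by rw [hfix]
        _ = spS B hB * spY (eV i) (fV j) 0 * (spS B hB)⁻¹ := (conj_spY _ _ _ _).symm
        _ = _ := by rw [← hu, mul_inv_cancel_right]
    have hev : ω (eV i : V) (fV j) = 0 := by simp [eV_form, hij.ne]
    have hev' : ω (eV i : V) ((spS B hB).1 *ᵥ fV j) = 0 := by
      have h5 := sp_form (spS B hB) (eV i) (fV j)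
      rw [hfix] at h5
      exact h5.trans hev
    have hw : ∀ l, ((spS B hB).1 *ᵥ fV j) (Sum.inl l) = B l j := by
      intro l
      change (fromBlocks 1 B 0 1 *ᵥ fV j) (Sum.inl l) = _
      simp [fV, mulVec_single_one]
    have h3 := congrArg (fun g : Sp => g.1 *ᵥ fV i) h2
    simp only [spY_apply hev, spY_apply hev'] at h3
    refine ⟨fun l hl => ?_, ?_⟩
    · have h4 := congrFun h3 (Sum.inl l)
      simpa [form_eV, form_fV, fV_form, hw, hl, hij.ne, hij.ne'] using h4
    · have h4 := congrFun h3 (Sum.inl i)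
      simp [form_eV, form_fV, fV_form, hw, hij.ne, hij.ne'] at h4
      rw [two_mul]
      exact h4
  have h01 : i₀ < i₁ := Fin.lt_def.2 (by omega)
  refine ⟨B i₀ i₀, B i₀ i₁, (key i₀ i₁ h01).2, ?_⟩
  rw [spY_eV_eV hne]
  refine spS_congr ?_ _ _
  have hvan : ∀ l j, j ≠ i₀ → ¬(l = i₀ ∧ j = i₁) → B l j = 0 := by
    intro l j hj hnot
    have hj0 : i₀ < j := Fin.lt_def.2 (by
      have : j.val ≠ i₀.val := fun h => hj (Fin.ext h)
      omega)
    rcases eq_or_ne l i₀ with rfl | hl
    · have hj1 : i₁ < j := Fin.lt_def.2 (by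
        have : j.val ≠ i₁.val := fun h => hnot ⟨rfl, Fin.ext h⟩
        have := Fin.lt_def.1 hj0
        omega)
      exact (key i₁ j hj1).1 _ hne
    · exact (key i₀ j hj0).1 l hl
  ext l j
  simp only [Matrix.add_apply, Matrix.single_apply]
  by_cases hj : j = i₀
  · subst hj
    by_cases hl : l = j
    · subst hl; simp [hne, hne.symm]
    · by_cases hl1 : l = i₁
      · subst hl1; simp [hne, hne.symm, hB.apply]
      · have : B l j = 0 := by
          rw [← hB.apply]
          exact hvan j l hl (fun h => hl1 h.2)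
        simp [this, Ne.symm hl, Ne.symm hl1, hne, hne.symm]
  · by_cases hlj : l = i₀ ∧ j = i₁
    · obtain ⟨rfl, rfl⟩ := hlj; simp [hne, hne.symm]
    · rw [hvan l j hj hlj, if_neg fun h => hj h.2.symm, if_neg fun h => hlj ⟨h.1.symm, h.2.symm⟩,
        if_neg fun h => hj h.2.symm, add_zero, add_zero]

/-- The elementary root elements of the Levi factor. -/
theorem spD_el {i j : Fin m} (hij : i ≠ j) (c : F) :
    spD (SpecialLinearGroup.toGL (el hij c)) = spY (eV i) ((-c) • fV j) 0 := by
  have h0 : ω (eV i : V) ((-c) • fV j) = 0 := by simp [eV_form, hij]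
  refine sp_ext fun x => ?_
  rw [spY_apply h0]
  change fromBlocks _ 0 0 _ *ᵥ x = _
  rw [fromBlocks_mulVec]
  have hinv : (((SpecialLinearGroup.toGL (el hij c))⁻¹ : GL (Fin m) F) : Matrix (Fin m) (Fin m) F) =
      transvection i j (-c) := by
    rw [← map_inv, inv_eq_of_mul_eq_one_right (b := el hij (-c))]
    · rfl
    · refine Subtype.ext ?_
      show transvection i j c * transvection i j (-c) = 1
      rw [Matrix.transvection_mul_transvection_same (h := hij), add_neg_cancel, Matrix.transvection_zero]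
  have hval : ((SpecialLinearGroup.toGL (el hij c) : GL (Fin m) F) : Matrix (Fin m) (Fin m) F) =
      transvection i j c := rfl
  rw [hinv, hval]
  funext l
  rcases l with l | l
  · simp [transvection, Matrix.add_mulVec, single_mulVec_eq, Pi.single_apply, form_eV, form_fV,
      sympForm_smul_right, ← neg_smul]
  · simp [transvection, Matrix.add_mulVec, single_mulVec_eq, Pi.single_apply, form_eV, transpose_single]
    split_ifs <;> ring

variable {p : ℕ} [Fact p.Prime] [CharP F p]

/-- Strongly closed subgroups contain a transvection along the first basis vector. -/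
theorem exists_spT_mem (hm : 2 ≤ m) (hex : m = 2 → 3 ≤ Fintype.card F) {S : Sylow p Sp}
    (hS : (S : Subgroup Sp) = spU F m) {T : Subgroup Sp}
    (hT : (groupFusionSystem (S : Subgroup Sp)).StronglyClosed T) (hT1 : T ≠ ⊥)
    {i₀ : Fin m} (h0 : i₀.val = 0) : ∃ a : F, a ≠ 0 ∧ spT (eV i₀) a ∈ T := by
  classical
  obtain ⟨i₁, h1⟩ : ∃ i₁ : Fin m, i₁.val = 1 := ⟨⟨1, by omega⟩, rfl⟩
  have hne : i₀ ≠ i₁ := fun h => by rw [h, h1] at h0; exact one_ne_zero h0
  obtain ⟨c, hcT, hc1, hc⟩ := exists_central_mem_of_stronglyClosed S hT hT1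
  rw [hS] at hc
  obtain ⟨a, b, hb2, rfl⟩ := eq_spY_of_central (p := p) h0 h1 (hS.le (hT.1 hcT)) hc
  set e : V := eV i₀ with he
  rcases eq_or_ne b 0 with rfl | hb
  · rw [zero_smul, spY_zero] at hcT hc1
    exact ⟨a, fun ha => hc1 (by rw [ha, spT_zero]), hcT⟩
  have hmove : ∀ v w : V, ω e v = 0 → ω e w = 0 → ω v w ≠ 0 → spY e v a ∈ T → spY e w a ∈ T := by
    intro v w hv hw hvw hmem
    let g := spT (w - v) (ω v w)⁻¹
    have hge : g.1 *ᵥ e = e := spT_fix (by rw [sympForm_sub_right, hw, hv, sub_zero]) _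
    have h2 : g * spY e v a * g⁻¹ = spY e w a := by rw [conj_spY, hge, spT_move hvw]
    rw [← h2]
    refine conj_mem_of_stronglyClosed hT hmem g ?_
    rw [h2, hS]
    exact pointRad_le h0 (spY_mem_pointRad hw a)
  have hoe : ∀ i, ω e (eV i : V) = 0 := fun i => by simp [he, eV_form]
  have hof : ω e (fV i₁ : V) = 0 := by simp [he, eV_form, hne]
  have hf1 : spY e (fV i₁) a ∈ T := by
    refine hmove (b • eV i₁) _ (by rw [sympForm_smul_right, hoe, mul_zero]) hof ?_ hcT
    rw [sympForm_smul_left, eV_form, fV_inr, if_pos rfl]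
    simpa using hb
  have he1 : spY e (eV i₁) a ∈ T := hmove _ _ hof (hoe i₁) (by simp [fV_form]) hf1
  have hkey : ∀ w w' : V, ω e w = 0 → ω e w' = 0 → spY e w a ∈ T → spY e w' a ∈ T →
      spY e (w + w') a ∈ T → spT e (a + ω w' w) ∈ T := by
    intro w w' hw hw' h2 h3 h4
    have h5 : spY e (w + w') a * spY e 0 (a + ω w' w) = spY e w a * spY e w' a := by
      rw [spY_mul hw hw', spY_mul (by rw [sympForm_add_right, hw, hw', add_zero]) (by simp [sympForm]),
        add_zero, show ω (0 : V) (w + w') = 0 by simp [sympForm], add_zero, add_assoc a a]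
    rw [← spY_zero]
    rw [show spY e 0 (a + ω w' w) = (spY e (w + w') a)⁻¹ * (spY e w a * spY e w' a) by
      rw [← h5, inv_mul_cancel_left]]
    exact T.mul_mem (T.inv_mem h4) (T.mul_mem h2 h3)
  by_cases hex' : ∃ c : F, c ≠ 0 ∧ a + c ≠ 0
  · obtain ⟨c, hc0, hac⟩ := hex'
    have hocf : ω e (c • fV i₁) = 0 := by rw [sympForm_smul_right, hof, mul_zero]
    have h2 : spY e (c • fV i₁) a ∈ T := hmove _ _ (hoe i₁) hocf (by
      rw [sympForm_smul_right, eV_form]; simpa using hc0) he1
    have h3 : spY e (eV i₁ + c • fV i₁) a ∈ T := hmove _ _ hof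
      (by rw [sympForm_add_right, hoe, hocf, add_zero]) (by
        rw [sympForm_add_right, sympForm_smul_right, fV_form, sympForm_self]; simp) hf1
    have h4 := hkey _ _ (hoe i₁) hocf he1 h2 h3
    refine ⟨_, ?_, h4⟩
    rw [sympForm_smul_left, fV_form]
    simpa using hac
  · push Not at hex'
    have ha : a ≠ 0 := fun h => by simpa [h] using hex' 1 one_ne_zero
    have hF : Fintype.card F ≤ 2 := by
      refine le_trans (Finset.card_le_card (s := Finset.univ) (t := ({0, -a} : Finset F)) fun x _ => ?_)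
        Finset.card_le_two
      by_cases hx : x = 0
      · simp [hx]
      · simp [eq_neg_of_add_eq_zero_right (hex' x hx)]
    obtain ⟨i₂, h2⟩ : ∃ i₂ : Fin m, i₂.val = 2 := by
      rcases hm.eq_or_lt with h | h
      · exact absurd (hex h.symm) (by omega)
      · exact ⟨⟨2, h⟩, rfl⟩
    have h12 : i₁ ≠ i₂ := fun h => by rw [h, h2] at h1; omega
    have h02 : i₀ ≠ i₂ := fun h => by rw [h, h2] at h0; omega
    have hof2 : ω e (fV i₂ : V) = 0 := by simp [he, eV_form, h02]
    have hoff : ω e (fV i₁ + fV i₂ : V) = 0 := by rw [sympForm_add_right, hof, hof2, add_zero]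
    have hff : spY e (fV i₁ + fV i₂) a ∈ T := hmove _ _ (hoe i₁) hoff (by
      simp [eV_form, h12]) he1
    have he2 : spY e (eV i₂) a ∈ T := hmove _ _ hoff (hoe i₂) (by
      rw [sympForm_add_left, fV_form, fV_form]; simp [h12]) hff
    have he12 : spY e (eV i₁ + eV i₂) a ∈ T := hmove _ _ hof
      (by rw [sympForm_add_right, hoe, hoe, add_zero]) (by
        rw [fV_form]; simp [h12]) hf1
    have h4 := hkey _ _ (hoe i₁) (hoe i₂) he1 he2 he12
    refine ⟨_, ?_, h4⟩
    simpa [eV_form] using ha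

theorem mem_vecs_of_parts {R : Type*} [AddCommMonoid R] {W : AddSubmonoid (Matrix (Fin m) (Fin m) R)}
    (hd : ∀ i a, Matrix.single i i a ∈ W)
    (hp : ∀ i j, i < j → ∀ a, Matrix.single i j a + Matrix.single j i a ∈ W)
    {B : Matrix (Fin m) (Fin m) R} (hB : B.IsSymm) : B ∈ W := by
  classical
  let C : Fin m → Fin m → Matrix (Fin m) (Fin m) R := fun i j =>
    if i < j then Matrix.single i j (B i j) + Matrix.single j i (B i j)
    else if i = j then Matrix.single i i (B i i) else 0
  have hBC : B = ∑ i, ∑ j, C i j := by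
    ext k l
    simp only [Matrix.sum_apply]
    rcases lt_trichotomy k l with h | rfl | h
    · rw [Finset.sum_eq_single k, Finset.sum_eq_single l]
      · simp [C, h, h.ne, h.ne']
      · intro b _ hb
        simp only [C]
        split_ifs <;> simp_all [Matrix.single_apply] <;> omega
      · simp
      · intro b _ hb
        refine Finset.sum_eq_zero fun j _ => ?_
        simp only [C]
        split_ifs <;> simp_all [Matrix.single_apply] <;> omega
      · simp
    · rw [Finset.sum_eq_single k, Finset.sum_eq_single k]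
      · simp [C]
      · intro b _ hb
        simp only [C]
        split_ifs <;> simp_all [Matrix.single_apply]
      · simp
      · intro b _ hb
        refine Finset.sum_eq_zero fun j _ => ?_
        simp only [C]
        split_ifs <;> simp_all [Matrix.single_apply] <;> omega
      · simp
    · rw [Finset.sum_eq_single l, Finset.sum_eq_single k]
      · simp [C, h, h.ne, h.ne', hB.apply]
      · intro b _ hb
        simp only [C]
        split_ifs <;> simp_all [Matrix.single_apply] <;> omega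
      · simp
      · intro b _ hb
        refine Finset.sum_eq_zero fun j _ => ?_
        simp only [C]
        split_ifs <;> simp_all [Matrix.single_apply] <;> omega
      · simp
  rw [hBC]
  refine W.sum_mem fun i _ => W.sum_mem fun j _ => ?_
  simp only [C]
  split_ifs with h1 h2
  · exact hp i j h1 _
  · exact hd i _
  · exact W.zero_mem

/-- A nontrivial strongly closed subgroup is everything. -/
theorem stronglyClosed_eq_spU (hm : 2 ≤ m) (hex : m = 2 → 3 ≤ Fintype.card F) {S : Sylow p Sp}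
    (hS : (S : Subgroup Sp) = spU F m) {T : Subgroup Sp}
    (hT : (groupFusionSystem (S : Subgroup Sp)).StronglyClosed T) :
    T = ⊥ ∨ T = (S : Subgroup Sp) := by
  classical
  rcases eq_or_ne T ⊥ with hT1 | hT1
  · exact Or.inl hT1
  refine Or.inr (le_antisymm hT.1 ?_)
  obtain ⟨i₀, h0⟩ : ∃ i₀ : Fin m, i₀.val = 0 := ⟨⟨0, by omega⟩, rfl⟩
  obtain ⟨a, ha, haT⟩ := exists_spT_mem hm hex hS hT hT1 h0
  have htv : ∀ v : V, (∀ i, v (Sum.inr i) = 0) → spT v a ∈ T := by
    intro v hv
    rcases eq_or_ne v 0 with rfl | hv0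
    · rw [show spT (0 : V) a = 1 from sp_ext fun x => by simp [spT_apply]]
      exact T.one_mem
    obtain ⟨g, -, hg⟩ := exists_sp_move (eV_ne_zero i₀) hv0
    have h2 : g * spT (eV i₀) a * g⁻¹ = spT v a := by rw [spT_conj, hg]
    rw [← h2]
    refine conj_mem_of_stronglyClosed hT haT g ?_
    rw [h2, hS]
    exact spT_mem_spU hv a
  have hsq : ∀ v : V, (∀ i, v (Sum.inr i) = 0) → ∀ t : F, spT v (a * t ^ 2) ∈ T := by
    intro v hv t
    rw [← spT_smul]
    exact htv _ fun i => by simp [hv i]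
  have hall : ∀ v : V, (∀ i, v (Sum.inr i) = 0) → ∀ c : F, spT v c ∈ T := by
    intro v hv c
    by_cases h2 : (2 : F) = 0
    · obtain ⟨s, hs⟩ : IsSquare (c / a) :=
        FiniteField.isSquare_of_char_two (by
          haveI : CharP F 2 := CharTwo.of_one_ne_zero_of_two_eq_zero one_ne_zero h2
          exact ringChar.eq F 2) _
      rw [show c = a * s ^ 2 by rw [sq, ← hs]; field_simp]
      exact hsq v hv s
    · have hc : c = a * ((c / a + 1) / 2) ^ 2 + -(a * ((c / a - 1) / 2) ^ 2) := by
        field_simp; ring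
      rw [hc, ← spT_mul, ← spT_inv]
      exact T.mul_mem (hsq v hv _) (T.inv_mem (hsq v hv _))
  let W : AddSubmonoid (Matrix (Fin m) (Fin m) F) :=
    { carrier := {B | ∃ hB : B.IsSymm, spS B hB ∈ T}
      zero_mem' := ⟨Matrix.isSymm_zero, by
        rw [show spS (0 : Matrix (Fin m) (Fin m) F) Matrix.isSymm_zero = 1 from
          Subtype.ext (by simp [spS, fromBlocks_one])]
        exact T.one_mem⟩
      add_mem' := by
        rintro B C ⟨hB, hBT⟩ ⟨hC, hCT⟩
        exact ⟨hB.add hC, by rw [← spS_mul B C hB hC]; exact T.mul_mem hBT hCT⟩ }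
  have hpairT : ∀ i j : Fin m, ∀ c : F, spY (eV i) (c • eV j) 0 ∈ T := by
    intro i j c
    have h1 : ∀ k, (c • eV j : V) (Sum.inr k) = 0 := fun k => by simp
    have h2 : ∀ k, (eV i : V) (Sum.inr k) = 0 := fun k => eV_inr i k
    refine T.mul_mem (T.mul_mem (T.mul_mem (hall _ (fun k => by simp) 1) (T.inv_mem (hall _ h1 1)))
      (T.inv_mem (hall _ h2 1))) (hall _ h2 0)
  have hQ : ∀ (B : Matrix (Fin m) (Fin m) F) (hB : B.IsSymm), spS B hB ∈ T := by
    intro B hB
    obtain ⟨_, h⟩ := mem_vecs_of_parts (W := W) (fun i b => ⟨isSymm_single i b, by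
      rw [spS_single_eq_spT]
      exact hall _ (fun k => eV_inr i k) b⟩) (fun i j hij b => ⟨isSymm_single_pair i j b, by
      have h := spY_eV_eV hij.ne 0 b
      rw [spS_congr (show Matrix.single i i (0 : F) + (Matrix.single i j b + Matrix.single j i b) =
        Matrix.single i j b + Matrix.single j i b by simp) _ (isSymm_single_pair i j b)] at h
      rw [← h]
      exact hpairT i j b⟩) hB
    exact h
  have helT : ∀ i j : Fin m, ∀ hij : i < j, ∀ c : F, spY (eV i) (c • fV j) 0 ∈ T := by
    intro i j hij c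
    let g := spT (fV j - eV j : V) (ω (eV j) (fV j))⁻¹
    have hgj : g.1 *ᵥ eV j = fV j := spT_move (by simp [eV_form])
    have hgi : g.1 *ᵥ eV i = eV i := spT_fix (by simp [eV_form, hij.ne]) _
    have h2 : g * spY (eV i) (c • eV j) 0 * g⁻¹ = spY (eV i) (c • fV j) 0 := by
      rw [conj_spY, hgi, mulVec_smul, hgj]
    rw [← h2]
    refine conj_mem_of_stronglyClosed hT (hpairT i j c) g ?_
    rw [h2, hS]
    exact spY_fV_mem_spU hij c
  rw [hS]
  intro g hg
  obtain ⟨A, B, hB, hA, rfl⟩ := exists_eq_spD_mul_spS (mem_spU_iff.1 hg).1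
  refine T.mul_mem ?_ (hQ B hB)
  have huni : IsUni (A : Matrix (Fin m) (Fin m) F) := hA ▸ hg.2
  have hdet : (A : Matrix (Fin m) (Fin m) F).det = 1 := by
    rw [Matrix.det_of_upperTriangular fun x y h => huni.1 x y h,
      Finset.prod_eq_one fun x _ => huni.2 x]
  let A' : Matrix.SpecialLinearGroup (Fin m) F := ⟨(A : Matrix (Fin m) (Fin m) F), hdet⟩
  have hAA : SpecialLinearGroup.toGL A' = A := Units.ext rfl
  have hle : upper F m ≤ T.comap (spDHom.comp SpecialLinearGroup.toGL) := by
    refine upper_le_closure.trans ((Subgroup.closure_le _).2 ?_)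
    rintro _ ⟨i, j, hij, c, rfl⟩
    show spD (SpecialLinearGroup.toGL (el hij.ne c)) ∈ T
    rw [spD_el]
    exact helT i j hij _
  rw [← hAA]
  exact hle (show A' ∈ upper F m from huni)

end CfsgLib.Fusion.SpSimple
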