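import Cfsg.Agent.Lib.Fusion.PSpSimple.Torus

/-!
# The fusion system of the projective symplectic group in the defining characteristic
-/

set_option autoImplicit false

open Matrix Cfsg Cfsg.FusionSystem CfsgLib.Classical

namespace CfsgLib.Fusion.SpSimple

variable {F : Type*} [Field F] [Fintype F] {m : ℕ} {p : ℕ} [Fact p.Prime] [CharP F p]

local notation "V" => Fin m ⊕ Fin m → F
local notation "Sp" => symplecticGroup (Fin m) F
local notation "ω" => sympForm m F

theorem exists_sylow_spU : ∃ P : Sylow p Sp, (P : Subgroup Sp) = spU F m := by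
  obtain ⟨P, hP⟩ := (isPGroup_spU (p := p) (F := F) (m := m)).exists_le_sylow
  refine ⟨P, le_antisymm ?_ hP⟩
  by_contra hlt
  obtain ⟨g, hgN, hgU⟩ := SetLike.exists_of_lt (lt_normalizerIn P.2 (lt_of_le_not_ge hP hlt))
  obtain ⟨h1, h2⟩ := triangular_of_normalizes (g := g) fun u hu => by
    simpa using conj_mem_of_mem_normalizer ((Subgroup.normalizer _).inv_mem hgN.2) hu
  obtain ⟨t, u, hu, rfl⟩ := exists_torus_mul h1 h2
  have htP : (torusHom t : Sp) ∈ (P : Subgroup Sp) := by
    have := (P : Subgroup Sp).mul_mem hgN.1 ((P : Subgroup Sp).inv_mem (hP hu))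
    rwa [mul_inv_cancel_right] at this
  obtain ⟨k, hk⟩ := P.2 ⟨_, htP⟩
  have hk' := congrArg Subtype.val hk
  rw [SubgroupClass.coe_pow, Subgroup.coe_one, ← map_pow, ← map_one torusHom] at hk'
  have ht : t = 1 := by
    funext i
    refine Units.ext (sub_eq_zero.1 (eq_zero_of_pow_eq_zero (n := p ^ k) ?_))
    have h3 := congrArg (fun s : Fin m → Fˣ => ((s i : Fˣ) : F)) (torusHom_injective hk')
    simp only [Pi.pow_apply, Pi.one_apply, Units.val_pow_eq_pow_val, Units.val_one] at h3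
    rw [sub_pow_char_pow_of_commute (p := p) (n := k) (Commute.all _ _), h3, Pi.one_apply,
      Units.val_one, one_pow, sub_self]
  rw [ht, map_one, one_mul] at hgU
  exact hgU hu

/-- The fusion system of the symplectic group in the defining characteristic is simple. -/
theorem isSimple_sp (hm : 2 ≤ m) (hex : m = 2 → 3 ≤ Fintype.card F) {S : Sylow p Sp}
    (hS : (S : Subgroup Sp) = spU F m) : (groupFusionSystem (S : Subgroup Sp)).IsSimple p := by
  classical
  obtain ⟨i₀, h0⟩ : ∃ i₀ : Fin m, i₀.val = 0 := ⟨⟨0, by omega⟩, rfl⟩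
  obtain ⟨i₁, h1⟩ : ∃ i₁ : Fin m, i₁.val = 1 := ⟨⟨1, by omega⟩, rfl⟩
  have hne : i₀ ≠ i₁ := fun h => by rw [h, h1] at h0; exact one_ne_zero h0
  have hne1 : (S : Subgroup Sp) ≠ ⊥ := by
    intro hbot
    have h2 : spT (eV i₀ : V) 1 ∈ (S : Subgroup Sp) := hS ▸ spT_eV_mem_spU i₀ 1
    rw [hbot, Subgroup.mem_bot] at h2
    have h3 := congrArg (fun g : Sp => (g.1 *ᵥ fV i₀) (Sum.inl i₀)) h2
    simp [spT_apply, form_eV] at h3
  refine isSimple_groupFusion_of_normalizer S hne1
    (fun T hT => stronglyClosed_eq_spU hm hex hS hT) fun g hg => ?_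
  obtain ⟨h2, h3⟩ := triangular_of_normalizes (g := g) fun u hu => by
    rw [hS] at hg
    simpa using conj_mem_of_mem_normalizer ((Subgroup.normalizer _).inv_mem hg) hu
  obtain ⟨t, u, hu, rfl⟩ := exists_torus_mul h2 h3
  refine Subgroup.mul_mem _ ?_ (Subgroup.subset_closure
    ⟨Subgroup.le_normalizer (hS ▸ hu), Or.inl (hS ▸ hu)⟩)
  suffices h : ∀ s : Fin m → Fˣ, s ∈ (Subgroup.closure {g : Sp |
      g ∈ Subgroup.normalizer ((S : Subgroup Sp) : Set Sp) ∧ (g ∈ (S : Subgroup Sp) ∨
        ∃ R : Subgroup Sp, R ≤ (S : Subgroup Sp) ∧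
          (S : Subgroup Sp) ≤ Subgroup.normalizer (R : Set Sp) ∧
          (groupFusionSystem (S : Subgroup Sp)).IsCentric R ∧
          g ∈ Subgroup.closure
            {h : Sp | h ∈ Subgroup.normalizer (R : Set Sp) ∧ ∃ k : ℕ, orderOf h = p ^ k})}).comap
      torusHom from h t
  intro s
  have hN : ∀ r : Fin m → Fˣ, (torusHom r : Sp) ∈ Subgroup.normalizer ((S : Subgroup Sp) : Set Sp) :=
    fun r => hS ▸ torusHom_mem_normalizer r
  have hfirst : ∀ x : Fˣ, Pi.mulSingle i₁ x ∈ (Subgroup.closure {g : Sp |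
      g ∈ Subgroup.normalizer ((S : Subgroup Sp) : Set Sp) ∧ (g ∈ (S : Subgroup Sp) ∨
        ∃ R : Subgroup Sp, R ≤ (S : Subgroup Sp) ∧
          (S : Subgroup Sp) ≤ Subgroup.normalizer (R : Set Sp) ∧
          (groupFusionSystem (S : Subgroup Sp)).IsCentric R ∧
          g ∈ Subgroup.closure
            {h : Sp | h ∈ Subgroup.normalizer (R : Set Sp) ∧ ∃ k : ℕ, orderOf h = p ^ k})}).comap
      torusHom := fun x => Subgroup.subset_closure ⟨hN _, Or.inr ⟨pointRad (eV i₀ : V),
        (pointRad_le h0).trans hS.ge,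
        fun v hv => mem_normalizer_pointRad (fix_eV_zero (hS.le hv) h0),
        isCentric_pointRad p hS h0, single_mem p hne x⟩⟩
  rw [← Finset.univ_prod_mulSingle s]
  refine Subgroup.prod_mem _ fun i _ => ?_
  rcases eq_or_ne i i₁ with rfl | hi
  · exact hfirst _
  · have h4 : Pi.mulSingle i (s i) =
        Pi.mulSingle i (s i) * Pi.mulSingle i₁ (s i)⁻¹ * Pi.mulSingle (M := fun _ => Fˣ) i₁ (s i) := by
      rw [mul_assoc, ← Pi.mulSingle_mul, inv_mul_cancel, Pi.mulSingle_one, mul_one]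
    rw [h4]
    refine Subgroup.mul_mem _ (Subgroup.subset_closure ⟨hN _, Or.inr ⟨siegel F m,
      siegel_le.trans hS.ge, fun v hv => mem_normalizer_siegel (mem_spU_iff.1 (hS.le hv)).1,
      isCentric_siegel p hS, pair_mem p hi _⟩⟩) (hfirst _)

/-- The defining characteristic fusion system of `PSp` is simple. -/
theorem isSimple_psp (hm : 2 ≤ m) (hex : m = 2 → 3 ≤ Fintype.card F)
    (S : Sylow p (Cfsg.PSp m F)) :
    (groupFusionSystem (S : Subgroup (Cfsg.PSp m F))).IsSimple p := by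
  classical
  let π₀ : Sp →* Cfsg.PSp m F := QuotientGroup.mk' (Subgroup.center Sp)
  have hπ₀ : Function.Surjective π₀ := QuotientGroup.mk'_surjective _
  have hker : π₀.ker = Subgroup.center Sp := QuotientGroup.ker_mk' _
  obtain ⟨P, hP⟩ := exists_sylow_spU (F := F) (m := m) (p := p)
  obtain ⟨k, hk⟩ := MulAction.exists_smul_eq (Cfsg.PSp m F) (P.mapSurjective hπ₀) S
  let π : Sp →* Cfsg.PSp m F := (MulAut.conj k).toMonoidHom.comp π₀
  have hπker : π.ker = Subgroup.center Sp := by
    refine Eq.trans ?_ hker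
    ext x
    simp [π, MonoidHom.mem_ker]
  have hmap : (P : Subgroup Sp).map π = (S : Subgroup (Cfsg.PSp m F)) := by
    rw [← hk, ← Subgroup.map_map]
    rfl
  refine (transported_groupFusion_central π ((MulAut.conj k).surjective.comp hπ₀) hπker.le
    (fun z hz => ?_) P.2 hmap).isSimple P.2 (isSimple_sp hm hex hP)
  rcases (mem_center_sp_iff z).1 (hπker ▸ hz) with rfl | rfl
  · rw [orderOf_one]
    exact Nat.coprime_one_left p
  · rcases eq_or_ne (spNegOne : Sp) 1 with h | h
    · rw [h, orderOf_one]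
      exact Nat.coprime_one_left p
    · have h2 : orderOf (spNegOne : Sp) = 2 :=
        orderOf_eq_prime (Subtype.ext (by simp [spNegOne, sq])) h
      rw [h2, Nat.coprime_primes Nat.prime_two Fact.out]
      rintro rfl
      exact h ((spNegOne_eq_one_iff (by omega)).2 (CharP.cast_eq_zero F 2))

end CfsgLib.Fusion.SpSimple
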