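import Cfsg.Agent.Lib.Fusion.PSpSimple.Basic
import Cfsg.Agent.Lib.Fusion.CentralQuotientSimple

/-!
# Two unipotent radicals of the symplectic group
-/

set_option autoImplicit false

open Matrix Cfsg CfsgLib.Classical CfsgLib.Fusion.UniTri

namespace CfsgLib.Fusion.SpSimple

variable {F : Type*} [Field F] {m : ℕ}

local notation "V" => Fin m ⊕ Fin m → F
local notation "Sp" => symplecticGroup (Fin m) F
local notation "ω" => sympForm m F

theorem spY_eV_eV {i j : Fin m} (hij : i ≠ j) (a b : F) :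
    spY (eV i) (b • eV j) a = spS (Matrix.single i i a + (Matrix.single i j b + Matrix.single j i b))
      ((isSymm_single i a).add (isSymm_single_pair i j b)) := by
  have h0 : ω (eV i) (b • eV j) = 0 := by rw [eV_form]; simp
  refine sp_ext fun x => ?_
  rw [spY_apply h0]
  change _ = fromBlocks 1 _ 0 1 *ᵥ x
  rw [fromBlocks_mulVec]
  funext l
  rcases l with l | l
  · simp [Matrix.add_mulVec, single_mulVec_eq, Pi.single_apply, form_eV, sympForm_smul_right]
    split_ifs <;> subst_vars <;> first | (exact absurd rfl hij) | ring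
  · simp [form_eV, sympForm_smul_right]

theorem eigen_of_commute_spT {e : V} (he : e ≠ 0) {y : Sp} (h : y * spT e 1 = spT e 1 * y) :
    ∃ c : F, c * c = 1 ∧ y.1 *ᵥ e = c • e ∧ ∀ x, ω (y.1 *ᵥ x) e = c * ω x e := by
  have key : ∀ x, ω x e • (y.1 *ᵥ e) = ω (y.1 *ᵥ x) e • e := by
    intro x
    have h1 := congrArg (fun g : Sp => g.1 *ᵥ x) h
    simp only [sp_mulVec_mul, spT_apply, one_mul, mulVec_add, mulVec_smul] at h1
    exact add_left_cancel h1
  obtain ⟨x₀, hx₀⟩ : ∃ x, ω x e ≠ 0 := by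
    obtain ⟨w, hw⟩ := exists_sympForm_ne_zero he
    exact ⟨w, by rwa [sympForm_swap e w, neg_ne_zero]⟩
  obtain ⟨c, hc⟩ : ∃ c : F, y.1 *ᵥ e = c • e :=
    ⟨(ω x₀ e)⁻¹ * ω (y.1 *ᵥ x₀) e, by rw [mul_smul, ← key, smul_smul, inv_mul_cancel₀ hx₀, one_smul]⟩
  have hlin : ∀ x, ω (y.1 *ᵥ x) e = c * ω x e := by
    intro x
    have h1 := key x
    rw [hc, smul_smul] at h1
    rw [mul_comm c]
    exact (smul_left_injective F he h1).symm
  refine ⟨c, ?_, hc, hlin⟩
  have h1 := sp_form y x₀ e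
  rw [hc, sympForm_smul_right, hlin, ← mul_assoc] at h1
  exact mul_right_cancel₀ hx₀ (h1.trans (one_mul _).symm)

theorem pow_mulVec_of_eigen {y : Sp} {e : V} {c : F} (h : y.1 *ᵥ e = c • e) :
    ∀ k : ℕ, (y ^ k).1 *ᵥ e = c ^ k • e
  | 0 => by rw [pow_zero, pow_zero, one_smul, sp_mulVec_one]
  | k + 1 => by
    rw [pow_succ, sp_mulVec_mul, h, mulVec_smul, pow_mulVec_of_eigen h k, smul_smul, ← pow_succ']

theorem fix_of_commute_spT {p : ℕ} [Fact p.Prime] [CharP F p] {e : V} (he : e ≠ 0) {y : Sp}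
    (hy : ∃ k : ℕ, y ^ p ^ k = 1) (h : y * spT e 1 = spT e 1 * y) :
    y.1 *ᵥ e = e ∧ ∀ x, ω (y.1 *ᵥ x) e = ω x e := by
  obtain ⟨k, hk⟩ := hy
  obtain ⟨c, -, hc, hlin⟩ := eigen_of_commute_spT he h
  have h1 := pow_mulVec_of_eigen hc (p ^ k)
  rw [hk, sp_mulVec_one] at h1
  have h2 : c ^ p ^ k = 1 := by
    by_contra hne
    have h3 : (c ^ p ^ k - 1) • e = 0 := by rw [sub_smul, ← h1, one_smul, sub_self]
    exact he ((smul_eq_zero.1 h3).resolve_left (sub_ne_zero.2 hne))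
  have hc1 : c = 1 := by
    refine sub_eq_zero.1 (eq_zero_of_pow_eq_zero (n := p ^ k) ?_)
    rw [sub_pow_char_pow_of_commute (p := p) (n := k) (Commute.one_right c), h2, one_pow, sub_self]
  subst hc1
  exact ⟨by rw [hc, one_smul], fun x => by rw [hlin, one_mul]⟩

theorem eV_ne_zero (i : Fin m) : (eV i : V) ≠ 0 := by simp [eV]

theorem eq_spS_of_fix {y : Sp} (h : ∀ i, y.1 *ᵥ eV i = eV i) :
    ∃ (B : Matrix (Fin m) (Fin m) F) (hB : B.IsSymm), y = spS B hB := by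
  obtain ⟨A, B, hB, hA, hy⟩ := exists_eq_spD_mul_spS (g := y) fun i j => by
    rw [sp_apply_inl, h, eV_inr]
  have hA1 : A = 1 := Units.ext (by
    rw [hA, Units.val_one]
    ext i j
    show y.1 (Sum.inl i) (Sum.inl j) = _
    rw [sp_apply_inl, h, eV_inl, one_apply])
  exact ⟨B, hB, by rw [hy, hA1, spD_one, one_mul]⟩

variable (F m) in
/-- The unipotent radical of the Siegel parabolic. -/
def siegel : Subgroup (symplecticGroup (Fin m) F) where
  carrier := {g | ∃ (B : Matrix (Fin m) (Fin m) F) (hB : B.IsSymm), g = spS B hB}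
  one_mem' := ⟨0, Matrix.isSymm_zero, Subtype.ext (by simp [spS, fromBlocks_one])⟩
  mul_mem' := by
    rintro _ _ ⟨B, hB, rfl⟩ ⟨C, hC, rfl⟩
    exact ⟨B + C, hB.add hC, spS_mul B C hB hC⟩
  inv_mem' := by
    rintro _ ⟨B, hB, rfl⟩
    refine ⟨-B, hB.neg, inv_eq_of_mul_eq_one_right ?_⟩
    rw [spS_mul]
    exact Subtype.ext (by simp [spS, fromBlocks_one])

theorem conj_spD_spS (A : GL (Fin m) F) (B : Matrix (Fin m) (Fin m) F) (hB : B.IsSymm) :
    ∃ (C : Matrix (Fin m) (Fin m) F) (hC : C.IsSymm), spD A * spS B hB * (spD A)⁻¹ = spS C hC := by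
  refine ⟨(A : Matrix (Fin m) (Fin m) F) * B * (A : Matrix (Fin m) (Fin m) F)ᵀ, ?_, ?_⟩
  · simp [Matrix.IsSymm, transpose_mul, Matrix.mul_assoc, hB.eq]
  · rw [mul_inv_eq_iff_eq_mul]
    apply Subtype.ext
    have hinv : (A : Matrix (Fin m) (Fin m) F)ᵀ *
        ((A⁻¹ : Matrix.GeneralLinearGroup (Fin m) F) : Matrix (Fin m) (Fin m) F)ᵀ = 1 := by
      rw [← transpose_mul, ← Units.val_mul, inv_mul_cancel, Units.val_one, transpose_one]
    simp only [spD, spS, Submonoid.coe_mul, fromBlocks_multiply]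
    simp [Matrix.mul_assoc, hinv, -Matrix.coe_units_inv]

/-- The radical of the stabilizer of a point. -/
def pointRad (e : V) : Subgroup Sp where
  carrier := {g | g.1 *ᵥ e = e ∧ ∀ v, ω v e = 0 → ∃ c : F, g.1 *ᵥ v = v + c • e}
  one_mem' := ⟨sp_mulVec_one e, fun v _ => ⟨0, by rw [sp_mulVec_one, zero_smul, add_zero]⟩⟩
  mul_mem' := by
    rintro g h ⟨hg, hg'⟩ ⟨hh, hh'⟩
    refine ⟨by rw [sp_mulVec_mul, hh, hg], fun v hv => ?_⟩
    obtain ⟨c, hc⟩ := hh' v hv
    obtain ⟨d, hd⟩ := hg' v hv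
    exact ⟨d + c, by rw [sp_mulVec_mul, hc, mulVec_add, mulVec_smul, hg, hd, add_smul, add_assoc]⟩
  inv_mem' := by
    rintro g ⟨hg, hg'⟩
    have he : g⁻¹.1 *ᵥ e = e := by
      conv_lhs => rw [← hg, sp_inv_mulVec]
    refine ⟨he, fun v hv => ?_⟩
    obtain ⟨c, hc⟩ := hg' v hv
    refine ⟨-c, ?_⟩
    have h1 := congrArg (fun z => g⁻¹.1 *ᵥ z) hc
    simp only [sp_inv_mulVec, mulVec_add, mulVec_smul, he] at h1
    rw [neg_smul, ← sub_eq_add_neg]
    exact eq_sub_of_add_eq h1.symm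

theorem spY_mem_pointRad {e v : V} (h : ω e v = 0) (a : F) : spY e v a ∈ pointRad e := by
  refine ⟨?_, fun x hx => ⟨ω x v, ?_⟩⟩
  · simp [spY_apply h, sympForm_self, h]
  · simp [spY_apply h, hx]

theorem mem_normalizer_pointRad [Fintype F] {e : V} {g : Sp} (hg : g.1 *ᵥ e = e) :
    g ∈ Subgroup.normalizer (pointRad e : Set Sp) := by
  have hgi : g⁻¹.1 *ᵥ e = e := by conv_lhs => rw [← hg, sp_inv_mulVec]
  refine mem_normalizer_of_forall ?_
  rintro y ⟨hy, hy'⟩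
  refine ⟨by rw [sp_mulVec_mul, sp_mulVec_mul, hgi, hy, hg], fun v hv => ?_⟩
  obtain ⟨c, hc⟩ := hy' (g⁻¹.1 *ᵥ v) (by
    have h1 := sp_form g⁻¹ v e
    rw [hgi] at h1
    exact h1.trans hv)
  exact ⟨c, by rw [sp_mulVec_mul, sp_mulVec_mul, hc, mulVec_add, mulVec_smul, sp_mulVec_inv, hg]⟩

variable [Fintype F]

theorem siegel_le : siegel F m ≤ spU F m := by
  rintro _ ⟨B, hB, rfl⟩
  exact spS_mem_spU B hB

theorem pointRad_le {i₀ : Fin m} (h0 : i₀.val = 0) : pointRad (eV i₀ : V) ≤ spU F m := by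
  rintro g ⟨hg, hg'⟩
  have hcol : ∀ j, ∃ c : F, g.1 *ᵥ eV j = eV j + c • eV i₀ := fun j =>
    hg' _ (by rw [form_eV, eV_inr])
  choose c hc using hcol
  refine mem_spU_iff.2 ⟨fun i j => ?_, fun i j hij => ?_, fun i => ?_⟩
  · rw [sp_apply_inl, hc]; simp
  · have : i ≠ i₀ := fun h => by
      rw [h, Fin.lt_def, h0] at hij
      exact Nat.not_lt_zero _ hij
    rw [sp_apply_inl, hc]; simp [hij.ne', this]
  · rcases eq_or_ne i i₀ with rfl | hne
    · rw [sp_apply_inl, hg]; simp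
    · rw [sp_apply_inl, hc]; simp [hne]

variable (p : ℕ) [Fact p.Prime] [CharP F p]

include p in
theorem isCentric_siegel {S : Subgroup Sp} (hS : S = spU F m) :
    (Cfsg.groupFusionSystem S).IsCentric (siegel F m) := by
  subst hS
  refine isCentric_of_pElement_commute (isPGroup_spU (p := p)) siegel_le fun y hy hcomm => ?_
  refine eq_spS_of_fix fun i => (fix_of_commute_spT (eV_ne_zero i) hy (hcomm _ ?_)).1
  exact ⟨_, isSymm_single i 1, by rw [eV, spS_single_eq_spT]⟩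

include p in
theorem isCentric_pointRad {S : Subgroup Sp} (hS : S = spU F m) {i₀ : Fin m} (h0 : i₀.val = 0) :
    (Cfsg.groupFusionSystem S).IsCentric (pointRad (eV i₀ : V)) := by
  subst hS
  refine isCentric_of_pElement_commute (isPGroup_spU (p := p)) (pointRad_le h0) fun y hy hcomm => ?_
  set e : V := eV i₀ with he
  have hmemT : spT e 1 ∈ pointRad e := by
    rw [← spY_zero]
    exact spY_mem_pointRad (by simp [sympForm]) _
  obtain ⟨hye, hlin⟩ := fix_of_commute_spT (p := p) (e := e) (eV_ne_zero i₀) hy (hcomm _ hmemT)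
  refine ⟨hye, fun v hv => ?_⟩
  have hev : ω e v = 0 := by rw [sympForm_swap v e, hv, neg_zero]
  have h1 : spY e (y.1 *ᵥ v) 0 = spY e v 0 := by
    have h2 := hcomm _ (spY_mem_pointRad hev 0)
    calc spY e (y.1 *ᵥ v) 0 = spY (y.1 *ᵥ e) (y.1 *ᵥ v) 0 := by rw [hye]
      _ = y * spY e v 0 * y⁻¹ := (conj_spY y e v 0).symm
      _ = spY e v 0 := by rw [h2, mul_inv_cancel_right]
  have hev' : ω e (y.1 *ᵥ v) = 0 := by
    have h5 := sp_form y e v
    rw [hye] at h5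
    exact h5.trans hev
  have hf : ω (fV i₀) e = 1 := by rw [he, form_eV]; simp
  have h2 := congrArg (fun g : Sp => g.1 *ᵥ fV i₀) h1
  simp only [spY_apply hev, spY_apply hev', hf, one_smul, zero_mul, add_zero] at h2
  refine ⟨ω (fV i₀) v - ω (fV i₀) (y.1 *ᵥ v), ?_⟩
  rw [sub_smul]
  have h3 := h2
  rw [add_assoc, add_assoc] at h3
  have h4 := add_left_cancel h3
  rw [add_sub, eq_sub_iff_add_eq]
  exact h4

end CfsgLib.Fusion.SpSimple
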