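import Cfsg.Agent.Lib.Fusion.PSpSimple.Closed

/-!
# The torus of the symplectic group inside the local subgroups
-/

set_option autoImplicit false

open Matrix Cfsg Cfsg.FusionSystem CfsgLib.Classical CfsgLib.Fusion.UniTri

namespace CfsgLib.Fusion.SpSimple

variable {F : Type*} [Field F] {m : ℕ}

local notation "V" => Fin m ⊕ Fin m → F
local notation "Sp" => symplecticGroup (Fin m) F
local notation "ω" => sympForm m F

/-- Diagonal elements of the general linear group. -/
noncomputable def diagGL : (Fin m → Fˣ) →* GL (Fin m) F :=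
  (Units.map (Matrix.diagonalRingHom (Fin m) F).toMonoidHom).comp MulEquiv.piUnits.symm.toMonoidHom

/-- The standard torus. -/
noncomputable def torusHom : (Fin m → Fˣ) →* Sp := spDHom.comp diagGL

theorem torusHom_val (t : Fin m → Fˣ) : (torusHom t : Sp).1 =
    diagonal (Sum.elim (fun i => (t i : F)) fun i => (((t i)⁻¹ : Fˣ) : F)) := by
  show fromBlocks ((diagGL t : GL (Fin m) F) : Matrix (Fin m) (Fin m) F) 0 0
    (((diagGL t)⁻¹ : GL (Fin m) F) : Matrix (Fin m) (Fin m) F)ᵀ = _
  rw [← map_inv diagGL]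
  show fromBlocks (diagonal fun i => (t i : F)) 0 0 (diagonal fun i => (((t i)⁻¹ : Fˣ) : F))ᵀ = _
  rw [diagonal_transpose, fromBlocks_diagonal]

theorem torusHom_mul_apply (t : Fin m → Fˣ) (g : Sp) (x y : Fin m ⊕ Fin m) :
    (torusHom t * g).1 x y =
      Sum.elim (fun i => (t i : F)) (fun i => (((t i)⁻¹ : Fˣ) : F)) x * g.1 x y := by
  rw [Submonoid.coe_mul, torusHom_val, diagonal_mul]

theorem torusHom_injective : Function.Injective (torusHom : (Fin m → Fˣ) →* Sp) := by
  intro s t h
  funext i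
  have h1 := congrArg (fun g : Sp => g.1 (Sum.inl i) (Sum.inl i)) h
  simp only [torusHom_val, diagonal_apply_eq, Sum.elim_inl] at h1
  exact Units.ext h1

variable [Fintype F]

/-- A triangular element is a torus element times an element of the unipotent subgroup. -/
theorem exists_torus_mul {g : Sp} (h1 : ∀ i j, g.1 (Sum.inr i) (Sum.inl j) = 0)
    (h2 : ∀ i j, j < i → g.1 (Sum.inl i) (Sum.inl j) = 0) :
    ∃ (t : Fin m → Fˣ) (u : Sp), u ∈ spU F m ∧ g = torusHom t * u := by
  obtain ⟨A, B, hB, hA, -⟩ := exists_eq_spD_mul_spS h1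
  have hdet : (A : Matrix (Fin m) (Fin m) F).det ≠ 0 := (Matrix.GeneralLinearGroup.det A).ne_zero
  rw [hA, Matrix.det_of_upperTriangular (M := g.1.toBlocks₁₁) fun x y h => h2 x y h,
    Finset.prod_ne_zero_iff] at hdet
  let t : Fin m → Fˣ := fun i => Units.mk0 _ (hdet i (Finset.mem_univ i))
  refine ⟨t, (torusHom t)⁻¹ * g, mem_spU_iff.2 ⟨fun i j => ?_, fun i j hij => ?_, fun i => ?_⟩,
    (mul_inv_cancel_left _ _).symm⟩
  all_goals rw [← map_inv, torusHom_mul_apply]
  · rw [h1, mul_zero]
  · rw [h2 i j hij, mul_zero]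
  · exact Units.inv_mul (t i)

theorem torusHom_mem_normalizer (t : Fin m → Fˣ) :
    (torusHom t : Sp) ∈ Subgroup.normalizer (spU F m : Set Sp) := by
  refine mem_normalizer_of_forall fun u hu => ?_
  obtain ⟨h1, h2, h3⟩ := mem_spU_iff.1 hu
  rw [← map_inv torusHom t]
  refine mem_spU_iff.2 ⟨fun i j => ?_, fun i j hij => ?_, fun i => ?_⟩
  all_goals rw [Submonoid.coe_mul, torusHom_val, mul_diagonal, torusHom_mul_apply]
  · rw [h1, mul_zero, zero_mul]
  · rw [h2 i j hij, mul_zero, zero_mul]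
  · rw [h3, mul_one]
    exact Units.mul_inv (t i)

/-- An element fixing the first half normalizes the Siegel radical. -/
theorem mem_normalizer_siegel {g : Sp} (h : ∀ i j, g.1 (Sum.inr i) (Sum.inl j) = 0) :
    g ∈ Subgroup.normalizer (siegel F m : Set Sp) := by
  obtain ⟨A, B, hB, -, rfl⟩ := exists_eq_spD_mul_spS h
  refine Subgroup.mul_mem _ ?_ (Subgroup.le_normalizer ⟨B, hB, rfl⟩)
  refine mem_normalizer_of_forall ?_
  rintro _ ⟨C, hC, rfl⟩
  exact conj_spD_spS A C hC

theorem fix_eV_zero {u : Sp} (hu : u ∈ spU F m) {i₀ : Fin m} (h0 : i₀.val = 0) :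
    u.1 *ᵥ eV i₀ = eV i₀ := by
  obtain ⟨h1, h2, h3⟩ := mem_spU_iff.1 hu
  funext x
  rw [mulVec_eV]
  rcases x with x | x
  · rw [eV_inl]
    rcases eq_or_ne x i₀ with rfl | hx
    · rw [if_pos rfl, h3]
    · rw [if_neg hx]
      refine h2 x i₀ (Fin.lt_def.2 ?_)
      have : x.val ≠ i₀.val := fun h => hx (Fin.ext h)
      omega
  · rw [eV_inr, h1]

variable (p : ℕ) [Fact p.Prime] [CharP F p]

omit [Fintype F] in
theorem spT_pow (v : V) (c : F) : ∀ k : ℕ, spT v c ^ k = spT v ((k : F) * c)
  | 0 => by rw [pow_zero, Nat.cast_zero, zero_mul, spT_zero]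
  | k + 1 => by rw [pow_succ, spT_pow v c k, spT_mul]; congr 1; push_cast; ring

omit [Fintype F] in
theorem exists_orderOf_eq {g : Sp} (h : g ^ p = 1) : ∃ k : ℕ, orderOf g = p ^ k := by
  obtain ⟨k, -, hk⟩ := (Nat.dvd_prime_pow Fact.out).1
    (orderOf_dvd_of_pow_eq_one (n := p ^ 1) (x := g) (by rwa [pow_one]))
  exact ⟨k, hk⟩

theorem pair_mem {i j : Fin m} (hij : i ≠ j) (x : Fˣ) :
    (torusHom (Pi.mulSingle i x * Pi.mulSingle j x⁻¹) : Sp) ∈ Subgroup.closure
      {h : Sp | h ∈ Subgroup.normalizer (siegel F m : Set Sp) ∧ ∃ k : ℕ, orderOf h = p ^ k} := by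
  classical
  set d : Fin m → F :=
    Function.update (Function.update (fun _ : Fin m => (1 : F)) i x) j (x : F)⁻¹ with hd
  have hdet : (diagonal d).det = 1 := by
    rw [det_diagonal, hd, Finset.prod_update_of_mem (Finset.mem_univ j),
      Finset.sdiff_singleton_eq_erase,
      Finset.prod_update_of_mem (Finset.mem_erase.2 ⟨hij, Finset.mem_univ i⟩)]
    rw [Finset.prod_eq_one (fun _ _ => rfl), mul_one, inv_mul_cancel₀ x.ne_zero]
  have hGL : SpecialLinearGroup.toGL (⟨_, hdet⟩ : Matrix.SpecialLinearGroup (Fin m) F) =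
      diagGL (Pi.mulSingle i x * Pi.mulSingle j x⁻¹) := by
    refine Units.ext ?_
    show diagonal d = diagonal fun l => (((Pi.mulSingle i x * Pi.mulSingle j x⁻¹ : Fin m → Fˣ) l : Fˣ) : F)
    refine congrArg diagonal (funext fun l => ?_)
    rw [hd, Pi.mul_apply, Pi.mulSingle_apply, Pi.mulSingle_apply, Function.update_apply,
      Function.update_apply]
    split_ifs with h1 h2 <;> first
      | (subst_vars; exact absurd rfl hij)
      | simp
  have h := Subgroup.mem_map_of_mem (spDHom.comp SpecialLinearGroup.toGL)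
    (diag_mem_closure (K := F) hij x.ne_zero hdet)
  rw [MonoidHom.map_closure] at h
  show spDHom (diagGL (Pi.mulSingle i x * Pi.mulSingle j x⁻¹)) ∈ _
  rw [← hGL]
  refine Subgroup.closure_mono ?_ h
  have key : ∀ (a b : Fin m) (hab : a ≠ b) (c : F),
      spD (SpecialLinearGroup.toGL (el hab c)) ∈ {h : Sp |
        h ∈ Subgroup.normalizer (siegel F m : Set Sp) ∧ ∃ k : ℕ, orderOf h = p ^ k} := by
    intro a b hab c
    refine ⟨mem_normalizer_siegel fun i j => ?_, exists_orderOf_eq p ?_⟩
    · exact fromBlocks_apply₂₁ _ _ _ _ i j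
    · show spDHom (SpecialLinearGroup.toGL (el hab c)) ^ p = 1
      rw [← map_pow, ← map_pow, el_pow_p p hab c, map_one, map_one]
  rintro _ ⟨_, ⟨c, rfl⟩ | ⟨c, rfl⟩, rfl⟩
  · exact key _ _ hij c
  · exact key _ _ hij.symm c
where
  el_pow_p (p : ℕ) [CharP F p] {a b : Fin m} (hab : a ≠ b) (c : F) : (el hab c) ^ p = 1 := by
    have hk : ∀ k : ℕ, (el hab c) ^ k = el hab ((k : F) * c) := by
      intro k
      induction k with
      | zero =>
        refine Subtype.ext ?_
        rw [pow_zero, el_val, Nat.cast_zero, zero_mul, Matrix.transvection_zero]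
        rfl
      | succ k ih =>
        refine Subtype.ext ?_
        rw [pow_succ, ih]
        show transvection a b ((k : F) * c) * transvection a b c = _
        rw [Matrix.transvection_mul_transvection_same (h := hab), el_val]
        congr 1
        push_cast
        ring
    refine Subtype.ext ?_
    rw [hk, el_val, CharP.cast_eq_zero, zero_mul, Matrix.transvection_zero]
    rfl

/-- The product of three transvections of a hyperbolic pair. -/
def monW (i : Fin m) (x : Fˣ) : Sp :=
  spT (eV i) (x : F) * spT (fV i) ((x⁻¹ : Fˣ) : F) * spT (eV i) (x : F)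

theorem torusHom_mulSingle (i : Fin m) (x : Fˣ) :
    torusHom (Pi.mulSingle i x) = monW i x * monW i (-1 : Fˣ) := by
  classical
  refine sp_ext fun v => ?_
  rw [torusHom_val]
  simp only [monW, sp_mulVec_mul, spT_apply]
  funext l
  rw [mulVec_diagonal]
  rcases l with l | l
  · rcases eq_or_ne l i with rfl | hl
    · simp [form_eV, form_fV, sympForm_add_left, sympForm_smul_left, Pi.mulSingle_eq_same]
      field_simp
      ring
    · simp [form_eV, form_fV, sympForm_add_left, sympForm_smul_left, hl]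
  · rcases eq_or_ne l i with rfl | hl
    · simp [form_eV, form_fV, sympForm_add_left, sympForm_smul_left, Pi.mulSingle_eq_same]
      field_simp
      ring
    · simp [form_eV, form_fV, sympForm_add_left, sympForm_smul_left, hl]

theorem single_mem {i₀ i : Fin m} (hne : i₀ ≠ i) (x : Fˣ) :
    (torusHom (Pi.mulSingle i x) : Sp) ∈ Subgroup.closure
      {h : Sp | h ∈ Subgroup.normalizer (pointRad (eV i₀ : V) : Set Sp) ∧ ∃ k : ℕ, orderOf h = p ^ k} := by
  have hp : ∀ (v : V) (c : F), spT v c ^ p = 1 := fun v c => by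
    rw [spT_pow, CharP.cast_eq_zero, zero_mul, spT_zero]
  have he : ∀ c : F, spT (eV i : V) c ∈ Subgroup.closure
      {h : Sp | h ∈ Subgroup.normalizer (pointRad (eV i₀ : V) : Set Sp) ∧ ∃ k : ℕ, orderOf h = p ^ k} :=
    fun c => Subgroup.subset_closure ⟨mem_normalizer_pointRad
      (spT_fix (by simp [eV_form]) c), exists_orderOf_eq p (hp _ _)⟩
  have hf : ∀ c : F, spT (fV i : V) c ∈ Subgroup.closure
      {h : Sp | h ∈ Subgroup.normalizer (pointRad (eV i₀ : V) : Set Sp) ∧ ∃ k : ℕ, orderOf h = p ^ k} :=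
    fun c => Subgroup.subset_closure ⟨mem_normalizer_pointRad
      (spT_fix (by simp [eV_form, hne]) c), exists_orderOf_eq p (hp _ _)⟩
  rw [torusHom_mulSingle]
  exact mul_mem (mul_mem (mul_mem (he _) (hf _)) (he _)) (mul_mem (mul_mem (he _) (hf _)) (he _))

end CfsgLib.Fusion.SpSimple
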